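import Mathlib
import Cfsg.Agent.S4593
import Cfsg.Agent.Classical.PSLTwoDihedral

/-!
Central `2`-extensions and automorphisms of simple groups with abelian Sylow `2`-subgroups in which
an involution centraliser is `⟨t⟩ × E` with `E` almost simple with socle `PSL₂(q)`, `q` odd.
-/

set_option autoImplicit false

open Subgroup

namespace Cfsg.Lib.AbelianCentExt

/-- A perfect central extension by a `2`-group with abelian Sylow `2`-subgroups is trivial. -/
theorem eq_bot_of_abelian_sylow {L : Type*} [Group L] [Finite L] (Z : Subgroup L) (hZc : Z ≤ center L)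
    (hZ2 : IsPGroup 2 Z) (hL : commutator L = ⊤) (P : Sylow 2 L) (hZP : Z ≤ (P : Subgroup L))
    (hP : ∀ x ∈ (P : Subgroup L), ∀ y ∈ (P : Subgroup L), x * y = y * x) : Z = ⊥ := by
  haveI : Fact (Nat.Prime 2) := ⟨Nat.prime_two⟩
  let _ : CommGroup (P : Subgroup L) :=
    { (inferInstance : Group (P : Subgroup L)) with mul_comm := fun a b => Subtype.ext (hP a a.2 b b.2) }
  rw [eq_bot_iff]
  intro z hz
  rw [mem_bot]
  have key : ∀ (k : ℕ) (g₀ : L), g₀⁻¹ * z ^ k * g₀ ∈ (P : Subgroup L) → g₀⁻¹ * z ^ k * g₀ = z ^ k := by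
    intro k g₀ _
    rw [mul_assoc, ← mem_center_iff.mp (pow_mem (hZc hz) k) g₀, inv_mul_cancel_left]
  have h := MonoidHom.transfer_eq_pow (MonoidHom.id (P : Subgroup L)) z key
  have h1 : MonoidHom.transfer (MonoidHom.id (P : Subgroup L)) z = 1 := by
    have := Abelianization.commutator_subset_ker (MonoidHom.transfer (MonoidHom.id (P : Subgroup L)))
    rw [hL] at this
    exact this (mem_top z)
  rw [h1] at h
  have h2 : z ^ (P : Subgroup L).index = 1 := (congrArg Subtype.val h).symm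
  obtain ⟨k, hk⟩ := hZ2 ⟨z, hz⟩
  have hk' : z ^ 2 ^ k = 1 := congrArg Subtype.val hk
  rw [← orderOf_eq_one_iff]
  refine Nat.eq_one_of_dvd_coprimes (Nat.Coprime.pow_left k ?_) (orderOf_dvd_of_pow_eq_one hk')
    (orderOf_dvd_of_pow_eq_one h2)
  exact (Nat.Prime.coprime_iff_not_dvd Nat.prime_two).mpr P.not_dvd_index

/-- Lifts of `a` and `b` commute. -/
def LiftsCommute {L G : Type*} [Group L] [Group G] (π : L →* G) (a b : G) : Prop :=
  ∀ x y : L, π x = a → π y = b → x * y = y * x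

section Lifts

variable {L G : Type*} [Group L] [Group G] {π : L →* G}

theorem LiftsCommute.symm {a b : G} (h : LiftsCommute π a b) : LiftsCommute π b a :=
  fun x y hx hy => (h y x hy hx).symm

theorem liftsCommute_of (hc : π.ker ≤ center L) {a b : G} {x y : L} (hx : π x = a) (hy : π y = b)
    (h : x * y = y * x) : LiftsCommute π a b := by
  intro x' y' hx' hy'
  have cx : x⁻¹ * x' ∈ center L := hc (by rw [MonoidHom.mem_ker, map_mul, map_inv, hx, hx', inv_mul_cancel])
  have cy : y⁻¹ * y' ∈ center L := hc (by rw [MonoidHom.mem_ker, map_mul, map_inv, hy, hy', inv_mul_cancel])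
  obtain ⟨u, hu, rfl⟩ : ∃ u ∈ center L, x' = x * u := ⟨_, cx, by group⟩
  obtain ⟨v, hv, rfl⟩ : ∃ v ∈ center L, y' = y * v := ⟨_, cy, by group⟩
  have hcu : Commute u (y * v) := (mem_center_iff.mp hu (y * v)).symm
  have hcv : Commute x v := mem_center_iff.mp hv x
  exact ((Commute.mul_right (show Commute x y from h) hcv).mul_left hcu).eq

variable (hπ : Function.Surjective π) (hc : π.ker ≤ center L)

include hπ hc

theorem LiftsCommute.mul_right {a b b' : G} (h : LiftsCommute π a b) (h' : LiftsCommute π a b') :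
    LiftsCommute π a (b * b') := by
  obtain ⟨x, hx⟩ := hπ a
  obtain ⟨y, hy⟩ := hπ b
  obtain ⟨y', hy'⟩ := hπ b'
  exact liftsCommute_of hc hx (show π (y * y') = b * b' by rw [map_mul, hy, hy'])
    (Commute.mul_right (h x y hx hy) (h' x y' hx hy') : Commute x (y * y'))

theorem LiftsCommute.inv_right {a b : G} (h : LiftsCommute π a b) : LiftsCommute π a b⁻¹ := by
  obtain ⟨x, hx⟩ := hπ a
  obtain ⟨y, hy⟩ := hπ b
  exact liftsCommute_of hc hx (show π y⁻¹ = b⁻¹ by rw [map_inv, hy])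
    (Commute.inv_right (h x y hx hy) : Commute x y⁻¹)

theorem LiftsCommute.zpow_right {a b : G} (h : LiftsCommute π a b) (i : ℤ) :
    LiftsCommute π a (b ^ i) := by
  obtain ⟨x, hx⟩ := hπ a
  obtain ⟨y, hy⟩ := hπ b
  exact liftsCommute_of hc hx (show π (y ^ i) = b ^ i by rw [map_zpow, hy])
    (Commute.zpow_right (h x y hx hy) i : Commute x (y ^ i))

theorem liftsCommute_self (a : G) : LiftsCommute π a a := by
  obtain ⟨x, hx⟩ := hπ a
  exact liftsCommute_of hc hx hx rfl

theorem LiftsCommute.conj {a b : G} (h : LiftsCommute π a b) (g : G) :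
    LiftsCommute π (g * a * g⁻¹) (g * b * g⁻¹) := by
  obtain ⟨x, hx⟩ := hπ a
  obtain ⟨y, hy⟩ := hπ b
  obtain ⟨w, hw⟩ := hπ g
  refine liftsCommute_of hc (x := w * x * w⁻¹) (y := w * y * w⁻¹) (by simp [hw, hx]) (by simp [hw, hy]) ?_
  calc w * x * w⁻¹ * (w * y * w⁻¹) = w * (x * y) * w⁻¹ := by group
    _ = w * (y * x) * w⁻¹ := by rw [h x y hx hy]
    _ = w * y * w⁻¹ * (w * x * w⁻¹) := by group

/-- The commutator of lifts is invariant: `[a, b⁻¹ · n b n⁻¹]` lifts trivially when `n` centralises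
`a` and `a`, `b` commute. -/
theorem liftsCommute_of_fix {a b n : G} (hab : a * b = b * a) (hn : n * a * n⁻¹ = a) :
    LiftsCommute π a (b⁻¹ * (n * b * n⁻¹)) := by
  obtain ⟨x, hx⟩ := hπ a
  obtain ⟨y, hy⟩ := hπ b
  obtain ⟨w, hw⟩ := hπ n
  set k := x * y * x⁻¹ * y⁻¹ with hk
  have hkc : k ∈ center L := hc (by
    rw [MonoidHom.mem_ker, hk]
    simp [hx, hy, hab])
  obtain ⟨u, hu, hxu⟩ : ∃ u ∈ center L, w * x * w⁻¹ = x * u := ⟨x⁻¹ * (w * x * w⁻¹), hc (by
    rw [MonoidHom.mem_ker]; simp [hx, hw, hn]), by group⟩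
  set y' := w * y * w⁻¹ with hy'
  have h1 : x * y = k * (y * x) := by rw [hk]; group
  have h2 : x * y' = k * (y' * x) := by
    have e : w * (x * y) * w⁻¹ = w * (k * (y * x)) * w⁻¹ := by rw [h1]
    rw [show w * (x * y) * w⁻¹ = (w * x * w⁻¹) * y' by rw [hy']; group,
      show w * (k * (y * x)) * w⁻¹ = (w * k * w⁻¹) * (y' * (w * x * w⁻¹)) by rw [hy']; group,
      hxu, mem_center_iff.mp hkc w, mul_inv_cancel_right] at e
    refine mul_right_cancel (b := u) ?_
    calc x * y' * u = x * (y' * u) := mul_assoc _ _ _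
      _ = x * u * y' := by rw [mem_center_iff.mp hu y', mul_assoc]
      _ = k * (y' * x) * u := by rw [e]; group
  refine liftsCommute_of hc (x := x) (y := y⁻¹ * y') hx (by simp [hy, hw, hy']) ?_
  have h3 : x * y⁻¹ = y⁻¹ * k⁻¹ * x := by
    calc x * y⁻¹ = y⁻¹ * k⁻¹ * (k * (y * x)) * y⁻¹ := by group
      _ = y⁻¹ * k⁻¹ * (x * y) * y⁻¹ := by rw [h1]
      _ = y⁻¹ * k⁻¹ * x := by group
  calc x * (y⁻¹ * y') = x * y⁻¹ * y' := (mul_assoc _ _ _).symm
    _ = y⁻¹ * k⁻¹ * (x * y') := by rw [h3, mul_assoc]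
    _ = y⁻¹ * y' * x := by rw [h2]; group

end Lifts

universe u

variable {G : Type u} [Group G] [Finite G]

/-- The configuration extracted from the hypotheses. -/
structure Config (S : Sylow 2 G) (t : G) (T : Subgroup G) (n m : G) : Prop where
  mem : t ∈ (S : Subgroup G)
  le : T ≤ (S : Subgroup G)
  dec : ∀ x ∈ (S : Subgroup G), ∃ i : ℤ, ∃ e ∈ T, x = t ^ i * e
  card : Nat.card T = 4
  fixt : n * t * n⁻¹ = t
  norm : ∀ e ∈ T, n * e * n⁻¹ ∈ T
  fpf : ∀ e ∈ T, n * e * n⁻¹ = e → e = 1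
  moves : m ∈ normalizer ((S : Subgroup G) : Set G) ∧ m * t * m⁻¹ ≠ t

theorem sylow_lifts_commute {S : Sylow 2 G} {t : G} {T : Subgroup G} {n m : G} (C : Config S t T n m)
    (ht : t * t = 1) (hab : ∀ x ∈ (S : Subgroup G), ∀ y ∈ (S : Subgroup G), x * y = y * x)
    {L : Type*} [Group L] {π : L →* G} (hπ : Function.Surjective π) (hc : π.ker ≤ center L) :
    ∀ a ∈ (S : Subgroup G), ∀ b ∈ (S : Subgroup G), LiftsCommute π a b := by
  classical
  haveI : Finite G := ‹_›
  have hT : ∀ x ∈ T, ∀ y ∈ T, x * y = y * x := fun x hx y hy => hab x (C.le hx) y (C.le hy)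
  -- `t` commutes with everything
  have htT : ∀ e ∈ T, LiftsCommute π t e := by
    let f : T → T := fun b => ⟨(b : G)⁻¹ * (n * b * n⁻¹), mul_mem (inv_mem b.2) (C.norm b b.2)⟩
    have hf : Function.Injective f := by
      intro b b' h
      have h' : (b : G)⁻¹ * (n * b * n⁻¹) = (b' : G)⁻¹ * (n * b' * n⁻¹) := congrArg Subtype.val h
      have hfix : n * ((b : G) * (b' : G)⁻¹) * n⁻¹ = (b : G) * (b' : G)⁻¹ := by
        calc n * ((b : G) * (b' : G)⁻¹) * n⁻¹ = b * ((b : G)⁻¹ * (n * b * n⁻¹)) * (n * b' * n⁻¹)⁻¹ := by group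
          _ = b * ((b' : G)⁻¹ * (n * b' * n⁻¹)) * (n * b' * n⁻¹)⁻¹ := by rw [h']
          _ = (b : G) * (b' : G)⁻¹ := by group
      exact Subtype.ext (mul_inv_eq_one.mp (C.fpf _ (mul_mem b.2 (inv_mem b'.2)) hfix))
    intro e he
    obtain ⟨b, hb⟩ := (Finite.injective_iff_surjective.mp hf) ⟨e, he⟩
    rw [show e = (b : G)⁻¹ * (n * b * n⁻¹) from (congrArg Subtype.val hb).symm]
    exact liftsCommute_of_fix hπ hc (hab t C.mem b (C.le b.2)) C.fixt
  have htS : ∀ s ∈ (S : Subgroup G), LiftsCommute π t s := by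
    intro s hs
    obtain ⟨i, e, he, rfl⟩ := C.dec s hs
    exact ((liftsCommute_self hπ hc t).zpow_right hπ hc i).mul_right hπ hc (htT e he)
  -- the radical
  let R : Subgroup G :=
    { carrier := {a | ∀ s ∈ (S : Subgroup G), LiftsCommute π a s}
      one_mem' := fun s _ => by
        obtain ⟨y, hy⟩ := hπ s
        exact liftsCommute_of hc (map_one π) hy (by rw [one_mul, mul_one])
      mul_mem' := fun ha hb s hs =>
        (((ha s hs).symm).mul_right hπ hc (hb s hs).symm).symm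
      inv_mem' := fun ha s hs => (((ha s hs).symm).inv_right hπ hc).symm }
  have hRconj : ∀ g : G, g ∈ normalizer ((S : Subgroup G) : Set G) → ∀ a ∈ R, g * a * g⁻¹ ∈ R := by
    intro g hg a ha s hs
    have h1 : g⁻¹ * s * g ∈ (S : Subgroup G) := by
      have := (mem_normalizer_iff.mp (inv_mem hg) s).mp hs
      rwa [inv_inv] at this
    have := (ha _ h1).conj hπ hc g
    rwa [show g * (g⁻¹ * s * g) * g⁻¹ = s by group] at this
  have htR : t ∈ R := htS
  obtain ⟨hmS, hmt⟩ := C.moves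
  have hmR : m * t * m⁻¹ ∈ R := hRconj m hmS t htR
  obtain ⟨i, e, he, hie⟩ := C.dec _ ((mem_normalizer_iff.mp hmS t).mp C.mem)
  have heR : e ∈ R := by
    have : e = (t ^ i)⁻¹ * (m * t * m⁻¹) := by rw [hie]; group
    rw [this]
    exact mul_mem (inv_mem (zpow_mem htR i)) hmR
  have he1 : e ≠ 1 := by
    rintro rfl
    rw [mul_one] at hie
    rcases Int.even_or_odd i with ⟨k, rfl⟩ | ⟨k, rfl⟩
    · rw [zpow_add, ← (Commute.refl t).mul_zpow, ht, one_zpow] at hie
      have := (conj_eq_one_iff.mp hie)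
      exact hmt (by rw [this]; group)
    · rw [zpow_add, zpow_mul, show t ^ (2 : ℤ) = 1 by rw [zpow_two, ht], one_zpow, one_mul, zpow_one] at hie
      exact hmt hie
  have hnS : n ∈ normalizer ((S : Subgroup G) : Set G) := by
    have hle : (S : Subgroup G).map (MulAut.conj n).toMonoidHom ≤ (S : Subgroup G) := by
      rintro _ ⟨x, hx, rfl⟩
      obtain ⟨j, y, hy, rfl⟩ := C.dec x hx
      show n * (t ^ j * y) * n⁻¹ ∈ (S : Subgroup G)
      rw [show n * (t ^ j * y) * n⁻¹ = (n * t ^ j * n⁻¹) * (n * y * n⁻¹) by group, ← conj_zpow, C.fixt]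
      exact mul_mem (zpow_mem C.mem j) (C.le (C.norm y hy))
    rw [mem_normalizer_iff]
    have heq := Subgroup.eq_of_le_of_card_ge hle
      (le_of_eq (Subgroup.card_map_of_injective (MulAut.conj n).injective).symm)
    intro x
    constructor
    · intro hx
      rw [← heq]
      exact ⟨x, hx, rfl⟩
    · intro hx
      rw [← heq] at hx
      obtain ⟨y, hy, hyx⟩ := hx
      have : y = x := (MulAut.conj n).injective hyx
      rwa [← this]
  have hneR : n * e * n⁻¹ ∈ R := hRconj n hnS e heR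
  have hTR : T ≤ R := by
    have hd : Nat.card ↥(T ⊓ R) ∣ 4 := C.card ▸ Subgroup.card_dvd_of_le inf_le_left
    have h3 : 3 ≤ Nat.card ↥(T ⊓ R) := by
      have hne : n * e * n⁻¹ ≠ e := fun h => he1 (C.fpf e he h)
      have hne1 : n * e * n⁻¹ ≠ 1 := fun h => he1 (conj_eq_one_iff.mp h)
      haveI : Fintype G := Fintype.ofFinite G
      have hsub : ({1, e, n * e * n⁻¹} : Finset G) ⊆ ((T ⊓ R : Subgroup G) : Set G).toFinset := by
        intro x hx
        rw [Set.mem_toFinset]
        simp only [Finset.mem_insert, Finset.mem_singleton] at hx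
        rcases hx with rfl | rfl | rfl
        exacts [one_mem _, ⟨he, heR⟩, ⟨C.norm e he, hneR⟩]
      have := Finset.card_le_card hsub
      rw [Finset.card_insert_of_notMem (by simp [eq_comm, he1, hne1]),
        Finset.card_pair (fun h => hne h.symm), Set.toFinset_card, ← Nat.card_eq_fintype_card] at this
      exact this
    have h4 : Nat.card ↥(T ⊓ R) = 4 := by
      have := Nat.le_of_dvd (by norm_num) hd
      interval_cases h : Nat.card ↥(T ⊓ R) <;> omega
    exact inf_eq_left.mp (Subgroup.eq_of_le_of_card_ge inf_le_left (by rw [h4, C.card]))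
  intro a ha
  obtain ⟨j, y, hy, rfl⟩ := C.dec a ha
  exact (mul_mem (zpow_mem htR j) (hTR hy) : t ^ j * y ∈ R)

end Cfsg.Lib.AbelianCentExt
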