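import Cfsg.Agent.AbelianCentExt.Basic

/-!
The configuration of `Basic` from the hypotheses on the involution centraliser.
-/

set_option autoImplicit false

open Subgroup

namespace Cfsg.Lib.AbelianCentExt

universe u

theorem pPrimeCore_two_eq_bot {G : Type u} [Group G] [Finite G] [IsSimpleGroup G]
    (h : 2 ∣ Nat.card G) : Cfsg.pPrimeCore 2 G = ⊥ := by
  have hn : (Cfsg.pPrimeCore 2 G).Normal :=
    Cfsg.Lib.Components.normal_of_mem_sSup_normal (fun N hN => hN.1)
  refine (IsSimpleGroup.eq_bot_or_eq_top_of_normal _ hn).resolve_right fun htop => ?_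
  have hc := Cfsg.Lib.Components.coprime_card_pPrimeCore (G := G) 2
  rw [htop, Subgroup.card_top] at hc
  exact absurd (Nat.eq_one_of_dvd_coprimes hc h (dvd_refl 2)) (by norm_num)

theorem center_eq_bot {G : Type u} [Group G] [IsSimpleGroup G] (hG : ¬ IsMulCommutative G) :
    center G = ⊥ := by
  refine (IsSimpleGroup.eq_bot_or_eq_top_of_normal (center G) inferInstance).resolve_right fun h => hG ?_
  exact ⟨⟨fun a b => (mem_center_iff.mp (h ▸ mem_top a) b).symm⟩⟩

section

variable {G : Type u} [Group G] [Finite G]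

theorem two_group_comm (hab : ∀ S : Sylow 2 G, IsMulCommutative ↥(S : Subgroup G)) {X : Subgroup G}
    (hX : IsPGroup 2 X) : ∀ x ∈ X, ∀ y ∈ X, x * y = y * x := by
  obtain ⟨S, hS⟩ := hX.exists_le_sylow
  intro x hx y hy
  exact congrArg Subtype.val ((hab S).is_comm.comm ⟨x, hS hx⟩ ⟨y, hS hy⟩)

theorem exists_config [IsSimpleGroup G]
    (hG : ¬ IsMulCommutative G) (hab : ∀ S : Sylow 2 G, IsMulCommutative ↥(S : Subgroup G))
    {t : G} (ht : orderOf t = 2) {E : Subgroup G}
    (hE : Cfsg.IsInternalDirectProduct (zpowers t) E (centralizer ({t} : Set G)))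
    {F : Type*} [Field F] [Fintype F] (hFo : Odd (Fintype.card F)) (hF3 : 3 < Fintype.card F)
    (N : Subgroup ↥E) [N.Normal] (eN : ↥N ≃* Matrix.ProjectiveSpecialLinearGroup (Fin 2) F)
    (hNc : centralizer (N : Set ↥E) = ⊥) :
    ∃ (S : Sylow 2 G) (T : Subgroup G) (n m : G), Config S t T n m := by
  classical
  haveI : Fact (Nat.Prime 2) := ⟨Nat.prime_two⟩
  obtain ⟨htC, hEC, hcomm, -, hsup⟩ := hE
  set C := centralizer ({t} : Set G) with hC
  have hmemC : ∀ {g : G}, g ∈ C ↔ t * g = g * t := fun {g} => by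
    rw [hC, mem_centralizer_singleton_iff]; exact eq_comm
  have htE : ∀ e ∈ E, t * e = e * t := fun e he => hcomm t (mem_zpowers t) e he
  -- the simple subgroup `N'`
  set N' := N.map E.subtype with hN'
  have hN'E : N' ≤ E := map_subtype_le N
  let e : ↥N' ≃* Matrix.ProjectiveSpecialLinearGroup (Fin 2) F :=
    (N.equivMapOfInjective E.subtype E.subtype_injective).symm.trans eN
  have hsimple : IsSimpleGroup (Matrix.ProjectiveSpecialLinearGroup (Fin 2) F) :=
    Matrix.ProjectiveSpecialLinearGroup.rank_two_simple (by rw [Nat.card_eq_fintype_card]; omega)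
  haveI : Nontrivial ↥N' := e.toEquiv.nontrivial
  haveI hN's : IsSimpleGroup ↥N' := IsSimpleGroup.isSimpleGroup_of_surjective e.symm.toMonoidHom e.symm.surjective
  have hodd : Fintype.card F % 2 = 1 := Nat.odd_iff.mp hFo
  have hcardP : 2 * Nat.card ↥N' = Fintype.card F * (Fintype.card F ^ 2 - 1) := by
    rw [Nat.card_congr e.toEquiv]
    exact Cfsg.Lib.PSLTwoDihedral.card_P hodd
  have hC' : ∀ c ∈ C, ∀ y ∈ N', c * y * c⁻¹ ∈ N' := by
    intro c hc y hy
    rw [← hsup, sup_comm] at hc
    obtain ⟨y', hy', rfl⟩ := hy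
    have hn : zpowers t ≤ normalizer (E : Set G) := by
      rw [zpowers_le, mem_normalizer_iff]
      intro z
      constructor
      · intro hz; rw [htE z hz, mul_inv_cancel_right]; exact hz
      · intro hz
        have h1 := htE _ hz
        have : z = t * z * t⁻¹ := by
          calc z = t⁻¹ * (t * z * t⁻¹) * t := by group
            _ = t⁻¹ * (t * (t * z * t⁻¹)) := by rw [h1]; group
            _ = t * z * t⁻¹ := by group
        rwa [this]
    rw [← SetLike.mem_coe, coe_mul_of_right_le_normalizer_left _ _ hn] at hc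
    obtain ⟨x, hx, w, hw, rfl⟩ := hc
    have hwy : w * E.subtype y' * w⁻¹ = E.subtype y' := by
      show w * (y' : G) * w⁻¹ = (y' : G)
      rw [hcomm w hw (y' : G) y'.2, mul_inv_cancel_right]
    refine ⟨⟨x, hx⟩ * y' * (⟨x, hx⟩)⁻¹, Normal.conj_mem inferInstance y' hy' _, ?_⟩
    calc E.subtype (⟨x, hx⟩ * y' * (⟨x, hx⟩)⁻¹) = x * (w * E.subtype y' * w⁻¹) * x⁻¹ := by rw [hwy]; simp
      _ = x * w * E.subtype y' * (x * w)⁻¹ := by group
  -- a Sylow subgroup through `t`
  obtain ⟨S, hS⟩ := (IsPGroup.of_card (p := 2) (n := 1)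
    (by rw [Nat.card_zpowers, ht, pow_one]) : IsPGroup 2 (zpowers t)).exists_le_sylow
  have htS : t ∈ (S : Subgroup G) := hS (mem_zpowers t)
  have hScomm : ∀ x ∈ (S : Subgroup G), ∀ y ∈ (S : Subgroup G), x * y = y * x := two_group_comm hab S.2
  have hSC : (S : Subgroup G) ≤ C := fun x hx => hmemC.mpr (hScomm t htS x hx)
  set T := N' ⊓ (S : Subgroup G) with hT
  -- `T` is a Sylow subgroup of `N'`
  have hmax : ∀ X : Subgroup G, IsPGroup 2 X → X ≤ N' → Nat.card X ≤ Nat.card T := by
    intro X hX hXN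
    have hXC : X ≤ C := fun x hx => hEC.trans le_rfl (hN'E (hXN hx))
    have hX' : IsPGroup 2 (X.subgroupOf C) := hX.of_equiv (subgroupOfEquivOfLe hXC).symm
    obtain ⟨P, hP⟩ := hX'.exists_le_sylow
    obtain ⟨c, hc⟩ := MulAction.exists_smul_eq C P (S.subtype hSC)
    have hsub : X.map (MulAut.conj (c : G)).toMonoidHom ≤ T := by
      rintro _ ⟨x, hx, rfl⟩
      refine ⟨hC' c c.2 x (hXN hx), ?_⟩
      have h1 : c * ⟨x, hXC hx⟩ * c⁻¹ ∈ (S.subtype hSC : Subgroup C) := by
        rw [← hc, Sylow.coe_subgroup_smul]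
        exact ⟨⟨x, hXC hx⟩, hP hx, rfl⟩
      exact h1
    calc Nat.card X = Nat.card (X.map (MulAut.conj (c : G)).toMonoidHom) :=
          (card_map_of_injective (MulAut.conj (c : G)).injective).symm
      _ ≤ Nat.card T := Nat.le_of_dvd Nat.card_pos (card_dvd_of_le hsub)
  obtain ⟨Q, hQ⟩ := (S.2.to_le (inf_le_right : T ≤ _)).of_equiv
    (subgroupOfEquivOfLe (inf_le_left : T ≤ N')).symm |>.exists_le_sylow
  have hQm : (Q : Subgroup N').map N'.subtype = T := by
    symm
    refine Subgroup.eq_of_le_of_card_ge ?_ (hmax _ (Q.2.map _) (map_subtype_le _))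
    intro x hx
    exact ⟨⟨x, hx.1⟩, hQ hx, rfl⟩
  have hTQ : Nat.card T = Nat.card (Q : Subgroup N') := by
    rw [← hQm, card_map_of_injective (subtype_injective N')]
  have hQmem : ∀ y : N', y ∈ (Q : Subgroup N') ↔ (y : G) ∈ T := by
    intro y
    rw [← hQm]
    exact ⟨fun h => ⟨y, h, rfl⟩, fun ⟨z, hz, hzy⟩ => by rwa [← Subtype.ext (a1 := z) (a2 := y) hzy]⟩
  -- order four
  have hT4 : Nat.card T = 4 := by
    have h16 : ¬ 16 ∣ Fintype.card F ^ 2 - 1 := by
      intro h16
      obtain ⟨P₀⟩ : Nonempty (Sylow 2 (Matrix.ProjectiveSpecialLinearGroup (Fin 2) F)) := inferInstance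
      obtain ⟨c, d, k, hg⟩ := Cfsg.Lib.PSLTwoDihedral.exists_isGen hodd h16 P₀
      let φ : Matrix.ProjectiveSpecialLinearGroup (Fin 2) F →* G := N'.subtype.comp e.symm.toMonoidHom
      have hφ : Function.Injective φ := (subtype_injective N').comp e.symm.injective
      have hcd := two_group_comm hab (P₀.2.map φ) (φ c) ⟨c, by rw [← hg.sup]; exact mem_sup_left (mem_zpowers c), rfl⟩
        (φ d) ⟨d, by rw [← hg.sup]; exact mem_sup_right (mem_zpowers d), rfl⟩
      rw [← map_mul, ← map_mul] at hcd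
      have h1 : c = c⁻¹ := by
        rw [← hg.inv, ← hφ hcd, mul_inv_cancel_right]
      have h2 : orderOf c ∣ 2 := orderOf_dvd_of_pow_eq_one (by
        rw [pow_two]; nth_rewrite 2 [h1]; exact mul_inv_cancel c)
      rw [hg.order] at h2
      have h3 : (4 : ℕ) ∣ 2 := (pow_dvd_pow 2 hg.two_le : 2 ^ 2 ∣ 2 ^ k).trans h2
      norm_num at h3
    have h8 : 8 ∣ Fintype.card F ^ 2 - 1 := by
      obtain ⟨j, hj⟩ := hFo
      obtain ⟨i, hi⟩ : Even (j * (j + 1)) := Nat.even_mul_succ_self j
      refine ⟨i, ?_⟩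
      have : (2 * j + 1) ^ 2 = 4 * (j * (j + 1)) + 1 := by ring
      rw [hj, this, hi]
      omega
    obtain ⟨r, hr⟩ := h8
    have hr2 : ¬ 2 ∣ r := fun ⟨r', hr'⟩ => h16 ⟨r', by rw [hr, hr']; ring⟩
    have hN4 : Nat.card ↥N' = 4 * (Fintype.card F * r) := by
      rw [hr] at hcardP
      linarith
    have hodd' : ¬ 2 ∣ Fintype.card F * r := by
      rw [Nat.prime_two.dvd_mul]
      rintro (h | h)
      · omega
      · exact hr2 h
    have hne0 : Fintype.card F * r ≠ 0 := fun h0 => hodd' (by rw [h0]; exact dvd_zero 2)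
    rw [hTQ, Sylow.card_eq_multiplicity, hN4, Nat.factorization_mul (by norm_num) hne0,
      Finsupp.add_apply, Nat.factorization_eq_zero_of_not_dvd hodd', add_zero,
      show (4 : ℕ) = 2 ^ 2 by norm_num, Nat.Prime.factorization_pow Nat.prime_two, Finsupp.single_eq_same]
  -- Burnside transfer in `N'`
  have hQn : ¬ normalizer ((Q : Subgroup N') : Set N') ≤ centralizer ((Q : Subgroup N') : Set N') := by
    intro hle
    have hcompl := MonoidHom.ker_transferSylow_isComplement' Q hle
    rcases IsSimpleGroup.eq_bot_or_eq_top_of_normal _ (MonoidHom.normal_ker (MonoidHom.transferSylow Q hle)) with h | h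
    · rw [h] at hcompl
      have hQtop : (Q : Subgroup N') = ⊤ := isComplement'_bot_left.mp hcompl
      have h1 : Nat.card ↥N' = 4 := by rw [← hT4, hTQ, hQtop, Subgroup.card_top]
      have h2 := Nat.mul_le_mul_left (Fintype.card F) (show 3 ≤ Fintype.card F ^ 2 - 1 by
        have : 16 ≤ Fintype.card F ^ 2 := le_trans (by norm_num) (Nat.pow_le_pow_left hF3 2)
        omega)
      omega
    · rw [h] at hcompl
      have := isComplement'_top_left.mp hcompl
      rw [this, Subgroup.card_bot] at hTQ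
      omega
  obtain ⟨n, hnQ, hnC⟩ := SetLike.not_le_iff_exists.mp hQn
  have hnT : ∀ x ∈ T, (n : G) * x * (n : G)⁻¹ ∈ T := by
    intro x hx
    have := (mem_normalizer_iff.mp hnQ ⟨x, hx.1⟩).mp ((hQmem _).mpr hx)
    exact (hQmem _).mp this
  have hfpf : ∀ x ∈ T, (n : G) * x * (n : G)⁻¹ = x → x = 1 := by
    intro a ha hna
    by_contra ha1
    apply hnC
    rw [mem_centralizer_iff]
    intro y hy
    have hyT : (y : G) ∈ T := (hQmem y).mp hy
    -- `n²` centralises `T`
    have hsq : ∀ x ∈ T, (n : G) * ((n : G) * x * (n : G)⁻¹) * (n : G)⁻¹ = x := by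
      intro x hx
      set c : G → G := fun z => (n : G) * z * (n : G)⁻¹ with hc
      have hcinj : Function.Injective c := fun u v h => mul_left_cancel (mul_right_cancel h)
      show c (c x) = x
      by_contra hne
      have hx1 : c x ≠ x := fun h => hne (by rw [h, h])
      have hm1 : c 1 = 1 := by simp [hc]
      have h1 : ∀ z ∈ ({1, a} : Set G), c z = z := by
        rintro z (rfl | rfl)
        exacts [hm1, hna]
      have hx' : x ≠ 1 ∧ x ≠ a := ⟨fun h => hx1 (by rw [h, hm1]), fun h => hx1 (by rw [h]; exact hna)⟩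
      have hsub : ({1, a, x, c x, c (c x)} : Finset G) ⊆ ((T : Set G)).toFinite.toFinset := by
        intro z hz
        rw [Set.Finite.mem_toFinset]
        simp only [Finset.mem_insert, Finset.mem_singleton] at hz
        rcases hz with rfl | rfl | rfl | rfl | rfl
        exacts [one_mem _, ha, hx, hnT x hx, hnT _ (hnT x hx)]
      have hcard := Finset.card_le_card hsub
      rw [← Set.ncard_eq_toFinset_card, ← Nat.card_coe_set_eq] at hcard
      have e1 : c x ≠ 1 := fun h => hx'.1 (hcinj (h.trans hm1.symm))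
      have e2 : c x ≠ a := fun h => hx'.2 (hcinj (h.trans hna.symm))
      have e3 : c (c x) ≠ 1 := fun h => e1 (hcinj (h.trans hm1.symm))
      have e4 : c (c x) ≠ a := fun h => e2 (hcinj (h.trans hna.symm))
      have e5 : c (c x) ≠ c x := fun h => hx1 (hcinj h)
      rw [Finset.card_insert_of_notMem (by simp only [Finset.mem_insert, Finset.mem_singleton, not_or]; exact ⟨Ne.symm ha1, hx'.1.symm, e1.symm, e3.symm⟩),
        Finset.card_insert_of_notMem (by simp only [Finset.mem_insert, Finset.mem_singleton, not_or]; exact ⟨hx'.2.symm, e2.symm, e4.symm⟩),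
        Finset.card_insert_of_notMem (by simp only [Finset.mem_insert, Finset.mem_singleton, not_or]; exact ⟨hx1.symm, Ne.symm hne⟩),
        Finset.card_pair e5.symm] at hcard
      have : Nat.card (T : Set G) = 4 := hT4
      omega
    -- the `2`-part of `n` acts as `n`
    obtain ⟨k, r, hr, hkr⟩ := Nat.exists_eq_two_pow_mul_odd (orderOf_pos n).ne'
    have hn2 : ∀ q ∈ (Q : Subgroup N'), Commute (n * n) q := by
      intro q hq
      have := hsq q ((hQmem q).mp hq)
      refine Subtype.ext ?_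
      show (n : G) * n * q = q * ((n : G) * n)
      calc (n : G) * n * q = (n : G) * ((n : G) * q * (n : G)⁻¹) * (n : G)⁻¹ * (n * n) := by group
        _ = q * ((n : G) * n) := by rw [this]
    obtain ⟨j, hj⟩ := hr
    have hw : n ^ r ∈ (Q : Subgroup N') := by
      have hwp : IsPGroup 2 (zpowers (n ^ r)) := IsPGroup.of_card (n := k) (by
        rw [Nat.card_zpowers, orderOf_pow_of_dvd (fun h => by omega) ⟨2 ^ k, by rw [hkr]; ring⟩, hkr,
          Nat.mul_div_cancel _ (by omega : 0 < r)])
      have hle : zpowers (n ^ r) ≤ normalizer ((Q : Subgroup N') : Set N') :=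
        zpowers_le.mpr (pow_mem hnQ r)
      have hsupQ : IsPGroup 2 (zpowers (n ^ r) ⊔ (Q : Subgroup N') : Subgroup N') :=
        hwp.to_sup_of_normal_right' Q.2 hle
      have := Q.3 hsupQ le_sup_right
      rw [← this]
      exact mem_sup_left (mem_zpowers _)
    have hQc : ∀ p ∈ (Q : Subgroup N'), ∀ q ∈ (Q : Subgroup N'), p * q = q * p := fun p hp q hq =>
      Subtype.ext (hScomm p ((hQmem p).mp hp).2 q ((hQmem q).mp hq).2)
    have h1 : Commute (n ^ r) y := hQc _ hw y hy
    have h2 : Commute ((n * n) ^ j) y := (hn2 y hy).pow_left j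
    rw [hj, pow_succ, pow_mul, pow_two] at h1
    have h3 : Commute n y := by
      have := (h2.inv_left).mul_left h1
      rwa [inv_mul_cancel_left] at this
    exact h3.eq.symm
  -- decomposition of `S`
  have hdec : ∀ x ∈ (S : Subgroup G), ∃ i : ℤ, ∃ y ∈ T, x = t ^ i * y := by
    intro x hx
    have hxC := hSC hx
    rw [← hsup] at hxC
    have hn : E ≤ normalizer (zpowers t : Set G) := by
      intro g hg
      rw [mem_normalizer_iff]
      intro z
      constructor
      · intro hz
        rw [← hcomm z hz g hg, mul_inv_cancel_right]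
        exact hz
      · intro hz
        have h := hcomm _ hz g hg
        have : z = g * z * g⁻¹ := by
          calc z = g⁻¹ * ((g * z * g⁻¹) * g) := by group
            _ = g * z * g⁻¹ := by rw [h]; group
        rwa [this]
    rw [← SetLike.mem_coe, coe_mul_of_right_le_normalizer_left _ _ hn] at hxC
    obtain ⟨w, hw, f, hf, rfl⟩ := hxC
    obtain ⟨i, rfl⟩ := hw
    refine ⟨i, f, ?_, rfl⟩
    have hfS : f ∈ (S : Subgroup G) := by
      have := mul_mem (inv_mem (zpow_mem htS i)) hx
      simpa using this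
    refine ⟨?_, hfS⟩
    -- conjugation by `f` is inner on `N'`
    have hcinv : ∀ z ∈ N', f⁻¹ * z * f ∈ N' := fun z hz => by
      have := hC' f⁻¹ (inv_mem (hEC hf)) z hz
      rwa [inv_inv] at this
    let α : MulAut ↥N' :=
      { toFun := fun z => ⟨f * z * f⁻¹, hC' f (hEC hf) z z.2⟩
        invFun := fun z => ⟨f⁻¹ * z * f, hcinv z z.2⟩
        left_inv := fun z => Subtype.ext (by show f⁻¹ * (f * z * f⁻¹) * f = z; group)
        right_inv := fun z => Subtype.ext (by show f * (f⁻¹ * z * f) * f⁻¹ = z; group)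
        map_mul' := fun z w => Subtype.ext (by show f * (z * w) * f⁻¹ = f * z * f⁻¹ * (f * w * f⁻¹); group) }
    have hαpow : ∀ (i : ℕ) (z : N'), (((α ^ i) z : N') : G) = f ^ i * z * (f ^ i)⁻¹ := by
      intro i
      induction i with
      | zero => intro z; simp
      | succ i ih =>
        intro z
        rw [pow_succ, MulAut.mul_apply, ih]
        show f ^ i * (f * z * f⁻¹) * (f ^ i)⁻¹ = _
        group
    obtain ⟨k, hk⟩ := S.2 ⟨f, hfS⟩
    have hk' : f ^ 2 ^ k = 1 := congrArg Subtype.val hk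
    have hα : α ^ 2 ^ k = 1 := by
      ext z
      rw [hαpow, hk']
      simp
    obtain ⟨j, -, hj⟩ := (Nat.dvd_prime_pow Nat.prime_two).mp (orderOf_dvd_of_pow_eq_one hα)
    have hNna : ¬ IsMulCommutative ↥N' := fun h => hnC (by
      rw [mem_centralizer_iff]; exact fun q _ => h.is_comm.comm q n)
    have heven : 2 ∣ Nat.card ↥N' := by
      have := Subgroup.card_subgroup_dvd_card (Q : Subgroup N')
      rw [← hTQ, hT4] at this
      exact (show (2 : ℕ) ∣ 4 by norm_num).trans this
    obtain ⟨g, hg⟩ := Cfsg.Agent.S4593.result (center_eq_bot hNna) (pPrimeCore_two_eq_bot heven) Q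
      ⟨⟨fun p q => Subtype.ext (Subtype.ext (hScomm _ ((hQmem p.1).mp p.2).2 _ ((hQmem q.1).mp q.2).2))⟩⟩
      α ⟨j, hj⟩ (fun p hp => Subtype.ext (by
        show f * (p : G) * f⁻¹ = p
        rw [hScomm f hfS p ((hQmem p).mp hp).2, mul_inv_cancel_right]))
    have hgE : (g : G) ∈ E := hN'E g.2
    have hin : (⟨g, hgE⟩⁻¹ * ⟨f, hf⟩ : E) ∈ centralizer (N : Set E) := by
      rw [mem_centralizer_iff]
      intro z hz
      have hzN : (z : G) ∈ N' := ⟨z, hz, rfl⟩
      have h : f * (z : G) * f⁻¹ = g * z * (g : G)⁻¹ := congrArg Subtype.val (hg ⟨z, hzN⟩)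
      refine Subtype.ext ?_
      show (z : G) * ((g : G)⁻¹ * f) = (g : G)⁻¹ * f * z
      calc (z : G) * ((g : G)⁻¹ * f) = (g : G)⁻¹ * (g * z * (g : G)⁻¹) * f := by group
        _ = (g : G)⁻¹ * (f * z * f⁻¹) * f := by rw [h]
        _ = (g : G)⁻¹ * f * z := by group
    rw [hNc, mem_bot, inv_mul_eq_one] at hin
    have : (g : G) = f := congrArg Subtype.val hin
    rw [← this]
    exact g.2
  -- `t` moves under `N(S)`
  have hmoves : ∃ m, m ∈ normalizer ((S : Subgroup G) : Set G) ∧ m * t * m⁻¹ ≠ t := by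
    by_contra hcon
    push Not at hcon
    have hG2 : 2 ∣ Nat.card G := ht ▸ orderOf_dvd_natCard t
    have := Cfsg.Lib.AbelianSylowTwoInner.mem_center_of_isolated (pPrimeCore_two_eq_bot hG2) S hScomm 1 t htS
      (by rw [pow_one, ← ht]; exact pow_orderOf_eq_one t) hcon
    rw [center_eq_bot hG, mem_bot] at this
    rw [this, orderOf_one] at ht
    norm_num at ht
  obtain ⟨m, hm⟩ := hmoves
  exact ⟨S, T, n, m, htS, inf_le_right, hdec, hT4,
    by rw [← htE n (hN'E n.2), mul_inv_cancel_right], hnT, hfpf, hm⟩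

end

end Cfsg.Lib.AbelianCentExt
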